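import Cfsg.Agent.Helper61.Sr.Basic

/-!
# S3572 piece (Qfalse) for helper61, core version: the conclusions of (Q), (N8), (DS2) enter as hypotheses
-/

set_option autoImplicit false

namespace Cfsg.Agent.Helper47.Sr

open Finset DihedralGroup Cfsg.Agent.Helper61.Sr Cfsg.Agent.Helper61.Dih

/-- odd residues mod 8 square to one -/
theorem Qfalse_sq : ∀ i : ZMod 8, i ∉ ({0, 2, 4, 6} : Finset (ZMod 8)) → i * i = 1 := by decide

/-- the two possible shapes of the rotation part -/
theorem Qfalse_shape : ∀ x y : ZMod 8, x ≠ y → x ∈ ({0, 2, 4, 6} : Finset (ZMod 8)) →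
    y ∈ ({0, 2, 4, 6} : Finset (ZMod 8)) → (-x = x ∨ -x = y) → (-y = x ∨ -y = y) →
    (({x, y} : Finset (ZMod 8)) = {2, 6} ∨ ({x, y} : Finset (ZMod 8)) = {0, 4}) := by decide

/-- a proper subgroup of `ZMod 8` lies in the even residues -/
theorem Qfalse_even (K : AddSubgroup (ZMod 8)) (hK : K ≠ ⊤) (i : ZMod 8) (hi : i ∈ K) :
    i ∈ ({0, 2, 4, 6} : Finset (ZMod 8)) := by
  by_contra hni
  apply hK
  rw [eq_top_iff]
  intro x _
  have hii := Qfalse_sq i hni
  have hx : x = (x * i).val • i := by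
    rw [nsmul_eq_mul, ZMod.natCast_zmod_val, mul_assoc, hii, mul_one]
  rw [hx]
  exact K.nsmul_mem hi _

/-- the case `n = 8` -/
theorem Qfalse_eight (T : Finset (DihedralGroup 8)) (hinv : ∀ d ∈ T, d⁻¹ ∈ T)
    (K : AddSubgroup (ZMod 8)) (hK : K ≠ ⊤) (hAK : ∀ i ∈ rotPart T, i ∈ K)
    (hA2 : (rotPart T).card = 2)
    (hN8 : ∀ (B A : Finset (ZMod 8)), (A = {2, 6} ∨ A = {0, 4}) →
      (∀ x : ZMod 8, x ≠ 0 →
        (A.filter (fun i => x - i ∈ A)).card + (B.filter (fun j => j + x ∈ B)).card = 2) → False)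
    (hrot : ∀ x : ZMod 8, x ≠ 0 →
      ((rotPart T).filter (fun i => x - i ∈ rotPart T)).card +
        ((refPart T).filter (fun j => j + x ∈ refPart T)).card = 2) : False := by
  have hneg : ∀ i ∈ rotPart T, -i ∈ rotPart T := by
    intro i hi
    rw [mem_rotPart] at hi ⊢
    have := hinv _ hi
    rwa [inv_r] at this
  obtain ⟨x, y, hxy, hA⟩ := Finset.card_eq_two.1 hA2
  have hx : x ∈ rotPart T := by rw [hA]; simp
  have hy : y ∈ rotPart T := by rw [hA]; simp
  have hxe := Qfalse_even K hK x (hAK x hx)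
  have hye := Qfalse_even K hK y (hAK y hy)
  have hnx : -x = x ∨ -x = y := by
    have := hneg x hx
    rw [hA] at this
    simpa using this
  have hny : -y = x ∨ -y = y := by
    have := hneg y hy
    rw [hA] at this
    simpa using this
  have hshape := Qfalse_shape x y hxy hxe hye hnx hny
  rw [← hA] at hshape
  exact hN8 (refPart T) (rotPart T) hshape hrot

variable {n : ℕ} [NeZero n]

/-- (QF), core version: `hQ` = conclusion of (Q), `hN8` = statement of (N8), `hrot` = conclusion of (DS2) -/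
theorem Qfalse_core (T : Finset (DihedralGroup n)) (hinv : ∀ d ∈ T, d⁻¹ ∈ T) (lam : ℕ)
    (K : AddSubgroup (ZMod n)) (hK : K ≠ ⊤) (hAK : ∀ i ∈ rotPart T, i ∈ K)
    (hQ : n = 8 ∧ (rotPart T).card = 2 ∧ (refPart T).card = 4 ∧ lam = 2)
    (hN8 : ∀ (B A : Finset (ZMod 8)), (A = {2, 6} ∨ A = {0, 4}) →
      (∀ x : ZMod 8, x ≠ 0 →
        (A.filter (fun i => x - i ∈ A)).card + (B.filter (fun j => j + x ∈ B)).card = 2) → False)
    (hrot : ∀ x : ZMod n, x ≠ 0 →
      ((rotPart T).filter (fun i => x - i ∈ rotPart T)).card +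
        ((refPart T).filter (fun j => j + x ∈ refPart T)).card = lam) : False := by
  obtain ⟨h8, hA2, -, hl2⟩ := hQ
  subst h8
  subst hl2
  exact Qfalse_eight T hinv K hK hAK hA2 hN8 hrot

end Cfsg.Agent.Helper47.Sr
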