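import Cfsg.Agent.Helper61.Sr.P1
import Cfsg.Agent.Helper86.Sr.N8
import Cfsg.Agent.Helper47.Sr.QfalseCore

/-!
# S3572 piece (Qfalse) for helper61: a reversible difference set in `D_n` whose rotation part lies in a proper
subgroup does not exist (from (Q), (N8), (DS2))
-/

set_option autoImplicit false

namespace Cfsg.Agent.Helper47.Sr

open Finset DihedralGroup Cfsg.Agent.Helper61.Sr Cfsg.Agent.Helper61.Dih

variable {n : ℕ} [NeZero n]

/-- (QF) -/
theorem Qfalse (hn : 3 ≤ n) (T : Finset (DihedralGroup n)) (hinv : ∀ d ∈ T, d⁻¹ ∈ T) (lam : ℕ)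
    (h : IsDs T lam) (hk : 2 ≤ T.card) (K : AddSubgroup (ZMod n)) (hK : K ≠ ⊤)
    (hAK : ∀ i ∈ rotPart T, i ∈ K) : False :=
  Qfalse_core T hinv lam K hK hAK (Q hn T hinv lam h hk K hK hAK)
    (fun B A hA hrot => Cfsg.Agent.Helper86.Sr.N8 B A hA hrot)
    (fun x hx => ds_rot T hinv lam h x hx)

end Cfsg.Agent.Helper47.Sr
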